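import Mathlib

/-! Monic annihilators from invertibility at infinity. -/

set_option autoImplicit false
universe u

namespace Groth.Agent.AlgSpIntS

open Polynomial

theorem exists_monic_of_eval_inv {A B : Type u} [CommRing A] [CommRing B] (φ : A →+* B) (s : B)
    (L : Type u) [CommRing L] [Algebra B L] [IsLocalization.Away s L] (h' : A[X]) (σ : L)
    (hσ : algebraMap B L s * σ = 1)
    (hz : eval₂ ((algebraMap B L).comp φ) σ (1 + X * h') = 0) :
    ∃ p : A[X], p.Monic ∧ eval₂ φ s p = 0 := by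
  classical
  let d := h'.natDegree + 1
  let r : A[X] := ∑ i ∈ Finset.range d, C (h'.coeff i) * X ^ (d - 1 - i)
  have hr : r.degree < (d : ℕ) := by
    refine (degree_sum_le _ _).trans_lt ((Finset.sup_lt_iff (WithBot.bot_lt_coe d)).2 fun i hi => ?_)
    exact (degree_C_mul_X_pow_le _ _).trans_lt (WithBot.coe_lt_coe.2 (show d - 1 - i < d by omega))
  have hm : (X ^ d + r).Monic := monic_X_pow_add hr
  let ψ : A →+* L := (algebraMap B L).comp φ
  let τ := algebraMap B L s
  have key : eval₂ ψ τ (X ^ d + r) = τ ^ d * eval₂ ψ σ (1 + X * h') := by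
    rw [eval₂_add, eval₂_add, eval₂_one, eval₂_mul, eval₂_X, eval₂_X_pow, mul_add, mul_one]
    congr 1
    rw [eval₂_eq_sum_range (p := h'), eval₂_finsetSum, ← mul_assoc, Finset.mul_sum]
    refine Finset.sum_congr rfl fun i hi => ?_
    rw [Finset.mem_range] at hi
    rw [eval₂_mul, eval₂_C, eval₂_X_pow]
    have e : τ ^ d = τ ^ (d - 1 - i) * τ ^ (i + 1) := by
      rw [← pow_add]; congr 1; simp only [d]; omega
    have e1 : τ ^ (i + 1) * σ ^ (i + 1) = 1 := by rw [← mul_pow, hσ, one_pow]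
    calc ψ (h'.coeff i) * τ ^ (d - 1 - i)
        = ψ (h'.coeff i) * τ ^ (d - 1 - i) * (τ ^ (i + 1) * σ ^ (i + 1)) := by rw [e1, mul_one]
      _ = τ ^ d * σ * (ψ (h'.coeff i) * σ ^ i) := by rw [e]; ring
  have h0 : algebraMap B L (eval₂ φ s (X ^ d + r)) = 0 := by
    rw [hom_eval₂, key, hz, mul_zero]
  obtain ⟨⟨_, k, rfl⟩, hk⟩ := (IsLocalization.map_eq_zero_iff (Submonoid.powers s) L _).1 h0
  refine ⟨X ^ k * (X ^ d + r), (monic_X_pow k).mul hm, ?_⟩
  rw [eval₂_mul, eval₂_X_pow]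
  exact hk

end Groth.Agent.AlgSpIntS
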