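import Mathlib

/-! Integral elements after a smooth base change are spanned by integral elements. -/

set_option autoImplicit false
universe u

namespace Groth.Agent.AlgSpIntS

open TensorProduct

theorem mem_span_of_isIntegralElem {R S' B C : Type u} [CommRing R] [CommRing S'] [Algebra R S']
    [Algebra.Smooth R S'] [CommRing B] [CommRing C] (φ : R →+* B) (φ' : S' →+* C) (r : B →+* C)
    (hr : r.comp φ = φ'.comp (algebraMap R S'))
    (hbij : letI := φ.toAlgebra; ∀ ψ : S' ⊗[R] B →+ C, (∀ s b, ψ (s ⊗ₜ b) = φ' s * r b) →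
      Function.Bijective ψ)
    (y : C) (hy : φ'.IsIntegralElem y) :
    ∃ (T : List (S' × B)), (∀ p ∈ T, φ.IsIntegralElem p.2) ∧
      y = (T.map fun p => φ' p.1 * r p.2).sum := by
  letI := φ.toAlgebra
  letI := φ'.toAlgebra
  letI : Algebra R C := (φ'.comp (algebraMap R S')).toAlgebra
  haveI : IsScalarTower R S' C := IsScalarTower.of_algebraMap_eq fun _ => rfl
  let rA : B →ₐ[R] C := { r with commutes' := fun c => RingHom.congr_fun hr c }
  let ψ : S' ⊗[R] B →ₐ[S'] C := Algebra.TensorProduct.lift (Algebra.ofId S' C) rA fun _ _ => mul_comm _ _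
  have hψ : Function.Bijective ψ := hbij ψ.toAddMonoidHom fun s b => Algebra.TensorProduct.lift_tmul _ _ (fun _ _ => Commute.all _ _) s b
  obtain ⟨z, rfl⟩ := hψ.2 y
  have hz : IsIntegral S' z := (isIntegral_algHom_iff ψ hψ.1).1 hy
  obtain ⟨w, hw⟩ := (TensorProduct.toIntegralClosure_bijective_of_smooth (R := R) (S := S') (B := B)).2 ⟨z, hz⟩
  have hz' : z = (TensorProduct.toIntegralClosure R S' B w).1 := by rw [hw]
  rw [hz']
  clear hz hw hy hz'
  induction w using TensorProduct.induction_on with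
  | zero => exact ⟨[], by simp, by simp⟩
  | tmul s b =>
    refine ⟨[(s, b.1)], fun p hp => (List.mem_singleton.1 hp) ▸ b.2, ?_⟩
    simp only [List.map_cons, List.map_nil, List.sum_cons, List.sum_nil, add_zero]
    exact Algebra.TensorProduct.lift_tmul _ _ (fun _ _ => Commute.all _ _) s b.1
  | add w v hw hv =>
    obtain ⟨T₁, h₁, e₁⟩ := hw
    obtain ⟨T₂, h₂, e₂⟩ := hv
    refine ⟨T₁ ++ T₂, fun p hp => (List.mem_append.1 hp).elim (h₁ p) (h₂ p), ?_⟩
    rw [List.map_append, List.sum_append, ← e₁, ← e₂, map_add, Subalgebra.coe_add, map_add]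

end Groth.Agent.AlgSpIntS
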