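import Groth.Prelude
import Groth.Agent.ASp.Points
import Groth.Agent.ASp.Morph
import Groth.Agent.ASp.ChartDim
import Groth.Agent.ASp.MorCancel
import Groth.Agent.ASp.TopFpqc

/-! Global sections of the structure sheaf read on an étale chart. -/

set_option autoImplicit false
set_option backward.isDefEq.respectTransparency false
set_option backward.isDefEq.respectTransparency.types false
universe u

open CategoryTheory CategoryTheory.Limits AlgebraicGeometry Opposite
open _root_.AlgSp

namespace Groth.Agent.AlgSpIntS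

variable {S : Scheme.{u}}

/-- Functions are injective along flat surjective morphisms. -/
theorem appTop_injective {P Q : Scheme.{u}} (t : P ⟶ Q) [Flat t] [Surjective t] :
    Function.Injective t.appTop.hom := by
  have := Flat.epi_of_flat_of_surjective t
  intro a b e
  let h : Γ(Q, ⊤) → (Q ⟶ Spec (CommRingCat.of (Polynomial (ULift.{u} ℤ)))) := fun c =>
    Q.toSpecΓ ≫ Spec.map (CommRingCat.ofHom (Polynomial.eval₂RingHom ((Int.castRingHom _).comp
      ULift.ringEquiv.toRingHom) c))
  have he : t ≫ h a = t ≫ h b := by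
    simp only [h, Scheme.toSpecΓ_naturality_assoc, ← Spec.map_comp]
    congr 2
    apply CommRingCat.hom_ext
    refine Polynomial.ringHom_ext' ?_ ?_
    · exact RingHom.ext fun z => by
        rw [show z = ((z.down : ℤ) : ULift.{u} ℤ) from ULift.ext _ _ (by simp), map_intCast, map_intCast]
    · simpa using e
  have h2 := (cancel_epi t).1 he
  simp only [h] at h2
  have h3 := congrArg (fun m => ((Scheme.ΓSpecIso _).inv ≫ m.appTop).hom Polynomial.X) h2
  simp only [Scheme.Hom.comp_appTop, Scheme.toSpecΓ_appTop, ← Scheme.ΓSpecIso_inv_naturality_assoc,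
    Iso.inv_hom_id, Category.comp_id, CommRingCat.hom_ofHom, Polynomial.coe_eval₂RingHom,
    Polynomial.eval₂_X] at h3
  exact h3

variable {X : Sp S}

/-- The value of a global section on an object of the small étale site. -/
noncomputable def valAt (s : ↥(gsectEt (OEt X) : CommRingCat.{u + 1})) (E : EtOver X) :
    Γ(E.obj.left.left, ⊤) :=
  ((limit.π (OEt X).obj (op E)) s).down

theorem valAt_map (s : ↥(gsectEt (OEt X) : CommRingCat.{u + 1})) {E E' : EtOver X} (g : E ⟶ E') :
    g.hom.left.left.appTop.hom (valAt s E') = valAt s E :=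
  congrArg ULift.down (ConcreteCategory.congr_hom (limit.w (OEt X).obj g.op) s)

theorem valAt_eq_of_comp_eq (s : ↥(gsectEt (OEt X) : CommRingCat.{u + 1})) {W R : Over S}
    {a : (yon S).obj W ⟶ X} (ha : RepWith @Etale a) (r₁ r₂ : R ⟶ W)
    (e : (yon S).map r₁ ≫ a = (yon S).map r₂ ≫ a) :
    r₁.left.appTop.hom (valAt s (EtOver.mk a ha)) = r₂.left.appTop.hom (valAt s (EtOver.mk a ha)) := by
  obtain ⟨M, p₁, p₂, sq⟩ : ∃ (M : Over S) (p₁ : M ⟶ W) (p₂ : M ⟶ W),
      IsPullback ((yon S).map p₁) ((yon S).map p₂) a a := by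
    obtain ⟨t, ht⟩ := (yon S).map_surjective (ha.1.fst a)
    exact ⟨_, t, ha.1.snd a, ht ▸ ha.1.isPullback a⟩
  let G : EtOver X := EtOver.mk ((yon S).map p₁ ≫ a)
    (ASp.repWith_comp (P := @Etale) (ASp.repWith_yon_map (P := @Etale) (g := p₁) (ha.2 _ _ _ sq.flip)) ha)
  let g₁ : G ⟶ EtOver.mk a ha := EtOver.homMk p₁ rfl
  let g₂ : G ⟶ EtOver.mk a ha := EtOver.homMk p₂ sq.w.symm
  obtain ⟨k, hk⟩ := (yon S).map_surjective (sq.lift _ _ e)
  have h1 : k ≫ p₁ = r₁ := (yon S).map_injective (by rw [Functor.map_comp, hk, sq.lift_fst])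
  have h2 : k ≫ p₂ = r₂ := (yon S).map_injective (by rw [Functor.map_comp, hk, sq.lift_snd])
  rw [← h1, ← h2, Over.comp_left, Over.comp_left, Scheme.Hom.comp_appTop, Scheme.Hom.comp_appTop]
  exact congrArg k.left.appTop.hom ((valAt_map s g₁).trans (valAt_map s g₂).symm)

/-- A monic relation on a surjective chart holds on every chart. -/
theorem eval₂_valAt {V : Over S} (f : X ⟶ (yon S).obj V) (s : ↥(gsectEt (OEt X) : CommRingCat.{u + 1}))
    {W : Over S} (a : (yon S).obj W ⟶ X) (ha : RepWith @Etale a) (has : RepWith @Surjective a)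
    (p : Polynomial Γ(V.left, ⊤))
    (hp : Polynomial.eval₂ ((yon S).preimage (a ≫ f)).left.appTop.hom (valAt s (EtOver.mk a ha)) p = 0)
    (E : EtOver X) :
    Polynomial.eval₂ ((yon S).preimage (E.obj.hom ≫ f)).left.appTop.hom (valAt s E) p = 0 := by
  obtain ⟨P, t, r, sq⟩ : ∃ (P : Over S) (t : P ⟶ W) (r : P ⟶ E.obj.left),
      IsPullback ((yon S).map t) ((yon S).map r) a E.obj.hom := by
    obtain ⟨t, ht⟩ := (yon S).map_surjective (ha.1.fst E.obj.hom)
    exact ⟨_, t, ha.1.snd E.obj.hom, ht ▸ ha.1.isPullback E.obj.hom⟩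
  have : Etale r.left := ha.2 _ _ _ sq
  have : Surjective r.left := has.2 _ _ _ sq
  let G : EtOver X := EtOver.mk ((yon S).map r ≫ E.obj.hom)
    (ASp.repWith_comp (P := @Etale) (ASp.repWith_yon_map (P := @Etale) (g := r) (ha.2 _ _ _ sq)) E.property)
  let g₁ : G ⟶ EtOver.mk a ha := EtOver.homMk t sq.w
  let g₂ : G ⟶ E := EtOver.homMk r rfl
  refine appTop_injective r.left ?_
  rw [Polynomial.hom_eval₂, map_zero]
  have h2 : r.left.appTop.hom (valAt s E) = t.left.appTop.hom (valAt s (EtOver.mk a ha)) :=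
    (valAt_map s g₂).trans (valAt_map s g₁).symm
  have hst : t ≫ (yon S).preimage (a ≫ f) = r ≫ (yon S).preimage (E.obj.hom ≫ f) :=
    (yon S).map_injective (by
      rw [Functor.map_comp, Functor.map_comp, Functor.map_preimage, Functor.map_preimage,
        reassoc_of% sq.w])
  have h1 : r.left.appTop.hom.comp ((yon S).preimage (E.obj.hom ≫ f)).left.appTop.hom =
      t.left.appTop.hom.comp ((yon S).preimage (a ≫ f)).left.appTop.hom := by
    rw [← CommRingCat.hom_comp, ← CommRingCat.hom_comp, ← Scheme.Hom.comp_appTop,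
      ← Scheme.Hom.comp_appTop, ← Over.comp_left, ← Over.comp_left, hst]
  rw [h1, h2, ← Polynomial.hom_eval₂, hp, map_zero]

end Groth.Agent.AlgSpIntS
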