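import Groth.Agent.AlgSpQC.SubMod
import Groth.Agent.AlgSpIntS.Algebra

/-! The integral closure of the structure sheaf in a quasi-coherent algebra. -/

set_option autoImplicit false
set_option linter.style.haveILetI false
set_option backward.isDefEq.respectTransparency false
set_option backward.isDefEq.respectTransparency.types false
universe u

open CategoryTheory Limits AlgebraicGeometry Opposite TensorProduct
open Groth.Agent.AlgSpQC

noncomputable section

namespace Groth.Agent.AlgSpIntS

variable {S : Scheme.{u}} {X : AlgSp.Sp S} {A : AlgSp.EtSh X CommRingCat.{u + 1}} (φ : AlgSp.OEt X ⟶ A)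

/-- An algebra as a module. -/
abbrev algMod : AlgSp.ModEt X :=
  (SheafOfModules.restrictScalars
    ((sheafCompose (AlgSp.etTop X) (forget₂ CommRingCat.{u + 1} RingCat.{u + 1})).map φ)).obj
    (SheafOfModules.unit ((sheafCompose (AlgSp.etTop X) (forget₂ CommRingCat.{u + 1} RingCat.{u + 1})).obj A))

theorem natural_app {E E' : AlgSp.EtOver X} (g : E' ⟶ E) :
    (A.obj.map g.op).hom.comp (φ.hom.app (op E)).hom =
      (φ.hom.app (op E')).hom.comp (rh (AlgSp.OEt X).obj g) :=
  (congrArg CommRingCat.Hom.hom (φ.hom.naturality g.op)).symm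

theorem isIntegralElem_map {E E' : AlgSp.EtOver X} (g : E' ⟶ E) {x : A.obj.obj (op E)}
    (hx : (φ.hom.app (op E)).hom.IsIntegralElem x) :
    (φ.hom.app (op E')).hom.IsIntegralElem ((A.obj.map g.op).hom x) := by
  obtain ⟨p, hp, h0⟩ := hx
  refine ⟨p.map (rh (AlgSp.OEt X).obj g), hp.map _, ?_⟩
  rw [Polynomial.eval₂_map, ← natural_app φ g, ← Polynomial.hom_eval₂, h0, map_zero]

theorem etale_of_ringEquiv {R₀ S₀ : Type u} {R S' : Type (u + 1)} [CommRing R₀] [CommRing S₀] [CommRing R]
    [CommRing S'] (f : R₀ →+* S₀) (hf : f.Etale) (a : R₀ ≃+* R) (b : S₀ ≃+* S') (f' : R →+* S')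
    (h : ∀ x, f' (a x) = b (f x)) : f'.Etale := by
  letI := f.toAlgebra
  letI := a.toRingHom.toAlgebra
  haveI : Algebra.Etale R₀ S₀ := hf
  letI := f'.toAlgebra
  let aA : R ≃ₐ[R₀] R₀ :=
    AlgEquiv.ofRingEquiv (f := a.symm) fun x => a.symm_apply_apply x
  let e : R ⊗[R₀] S₀ ≃+* S' :=
    ((Algebra.TensorProduct.congr aA (AlgEquiv.refl (R := R₀) (A₁ := S₀))).trans
      (Algebra.TensorProduct.lid R₀ S₀)).toRingEquiv.trans b
  let eA : R ⊗[R₀] S₀ ≃ₐ[R] S' := AlgEquiv.ofRingEquiv (f := e) fun x => by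
    obtain ⟨y, rfl⟩ := a.surjective x
    show b (Algebra.TensorProduct.lid R₀ S₀ (a.symm (a y) ⊗ₜ (1 : S₀))) = f' (a y)
    rw [h, Algebra.TensorProduct.lid_tmul, RingEquiv.symm_apply_apply, Algebra.smul_def, mul_one]
    rfl
  exact Algebra.Etale.of_equiv eA

theorem etale_rh {E E' : AlgSp.EtOver X} (g : E' ⟶ E) (hE : Aff X E) (hE' : Aff X E') :
    (rh (AlgSp.OEt X).obj g).Etale := by
  haveI : IsAffine E.obj.left.left := hE
  haveI : IsAffine E'.obj.left.left := hE'
  haveI : AlgebraicGeometry.Etale g.hom.left.left := AlgSp.EtOver.etale_left g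
  have h := HasRingHomProperty.appTop (P := @AlgebraicGeometry.Etale) g.hom.left.left inferInstance
  exact etale_of_ringEquiv g.hom.left.left.appTop.hom h (upEquiv X E) (upEquiv X E') _ (rh_upEquiv g)

/-- Integral elements on affine objects. -/
def intSub (hM : QC (algMod φ)) : AffSub (algMod φ) where
  N E _ :=
    { carrier := {x | (φ.hom.app (op E)).hom.IsIntegralElem x}
      add_mem' := fun ha hb => RingHom.IsIntegralElem.add _ ha hb
      zero_mem' := RingHom.isIntegralElem_zero (f := (φ.hom.app (op E)).hom)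
      smul_mem' := fun r _ hx => RingHom.IsIntegralElem.mul _ (RingHom.isIntegralElem_map _) hx }
  mem_res g _ _ _ hx := isIntegralElem_map φ g hx
  gen {E E'} g hE hE' y hy := by
    letI := (rh (AlgSp.OEt X).obj g).toAlgebra
    haveI : Algebra.Etale ((AlgSp.OEt X).obj.obj (op E)) ((AlgSp.OEt X).obj.obj (op E')) := etale_rh g hE hE'
    obtain ⟨T, hT, e⟩ := mem_span_of_isIntegralElem (φ.hom.app (op E)).hom (φ.hom.app (op E')).hom
      (A.obj.map g.op).hom (natural_app φ g) (by
        intro ψ hψ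
        have h := hM.bijective g hE hE'
        have he : ∀ w, ψ w = (θ (AlgSp.OEt X).obj g).app (algMod φ).val w := by
          intro w
          induction w using TensorProduct.induction_on with
          | zero => rw [map_zero]; exact (map_zero ((θ (AlgSp.OEt X).obj g).app (algMod φ).val).hom).symm
          | tmul s b =>
            rw [hψ]
            exact (θ_tmul (O := (AlgSp.OEt X).obj) (algMod φ).val g s b).symm
          | add a b ha hb =>
            rw [map_add, ha, hb]; exact (map_add ((θ (AlgSp.OEt X).obj g).app (algMod φ).val).hom a b).symm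
        exact (funext he) ▸ h) y hy
    rw [e]
    refine list_sum_mem fun z hz => ?_
    obtain ⟨p, hp, rfl⟩ := List.mem_map.1 hz
    exact Submodule.smul_mem _ p.1 (Submodule.subset_span ⟨p.2, hT p hp, rfl⟩)

variable (hM : QC (algMod φ))

/-- The ring of locally integral sections. -/
def intRing (U : AlgSp.EtOver X) : Subring (A.obj.obj (op U)) where
  carrier := {x | (intSub φ hM).Mem U x}
  zero_mem' := ((intSub φ hM).memSub (op U)).zero_mem
  add_mem' := ((intSub φ hM).memSub (op U)).add_mem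
  one_mem' Z k _ := by
    show (φ.hom.app (op Z)).hom.IsIntegralElem ((A.obj.map k.op).hom 1)
    rw [map_one]
    exact RingHom.isIntegralElem_one _
  mul_mem' {a b} ha hb Z k hZ := by
    show (φ.hom.app (op Z)).hom.IsIntegralElem ((A.obj.map k.op).hom (a * b))
    rw [map_mul]
    exact RingHom.IsIntegralElem.mul _ (ha Z k hZ) (hb Z k hZ)
  neg_mem' {a} ha Z k hZ := by
    show (φ.hom.app (op Z)).hom.IsIntegralElem ((A.obj.map k.op).hom (-a))
    rw [map_neg]
    exact RingHom.IsIntegralElem.neg _ (ha Z k hZ)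

theorem intRing_map {U V : AlgSp.EtOver X} (g : V ⟶ U) {x : A.obj.obj (op U)} (hx : x ∈ intRing φ hM U) :
    (A.obj.map g.op).hom x ∈ intRing φ hM V :=
  (intSub φ hM).mem_of_map g hx

/-- The presheaf of integral closures. -/
def intPre : (AlgSp.EtOver X)ᵒᵖ ⥤ CommRingCat.{u + 1} where
  obj U := CommRingCat.of (intRing φ hM U.unop)
  map {U V} g := CommRingCat.ofHom
    (((A.obj.map g).hom.comp (intRing φ hM U.unop).subtype).codRestrict (intRing φ hM V.unop)
      fun x => intRing_map φ hM g.unop x.2)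
  map_id U := by
    ext x
    exact ConcreteCategory.congr_hom (A.obj.map_id U) x.1
  map_comp f g := by
    ext x
    exact ConcreteCategory.congr_hom (A.obj.map_comp f g) x.1

theorem intPre_isSheaf : Presheaf.IsSheaf (AlgSp.etTop X) (intPre φ hM) := by
  refine (Presheaf.isSheaf_iff_isSheaf_forget _ _ (forget CommRingCat.{u + 1})).2 ?_
  refine (Presheaf.isSheaf_of_iso_iff (NatIso.ofComponents (fun U => Iso.refl _) ?_)).1
    ((Presheaf.isSheaf_iff_isSheaf_forget _ _ (forget AddCommGrpCat.{u + 1})).1 ((intSub φ hM).isSheaf hM))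
  intro U V g
  rfl

/-- The sheaf of integral closures. -/
def intSh : AlgSp.EtSh X CommRingCat.{u + 1} := ⟨intPre φ hM, intPre_isSheaf φ hM⟩

/-- The inclusion. -/
def intIncl : intSh φ hM ⟶ A :=
  ⟨{ app := fun U => CommRingCat.ofHom (intRing φ hM U.unop).subtype, naturality := fun _ _ _ => rfl }⟩

/-- The structure map. -/
def intStr : AlgSp.OEt X ⟶ intSh φ hM :=
  ⟨{ app := fun U => CommRingCat.ofHom ((φ.hom.app U).hom.codRestrict (intRing φ hM U.unop) fun r Z k _ => by
        show (φ.hom.app (op Z)).hom.IsIntegralElem ((A.obj.map k.op).hom ((φ.hom.app U).hom r))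
        rw [show (A.obj.map k.op).hom ((φ.hom.app U).hom r) = _ from RingHom.congr_fun (natural_app φ k) r]
        exact RingHom.isIntegralElem_map _)
     naturality := fun U V g => by
       ext r
       exact Subtype.ext (ConcreteCategory.congr_hom (φ.hom.naturality g) r) }⟩

theorem qc_intStr : QC (algMod (intStr φ hM)) := by
  refine BC.of_iso (O := AlgSp.OEt X) ((SheafOfModules.fullyFaithfulForget (AlgSp.OEtRing X)).preimageIso ?_)
    ((intSub φ hM).qc hM)
  refine PresheafOfModules.isoMk (fun U => LinearEquiv.toModuleIso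
    (({ toFun := fun x => x, invFun := fun x => x, left_inv := fun _ => rfl, right_inv := fun _ => rfl,
        map_add' := fun _ _ => rfl, map_smul' := fun _ _ => rfl } :
      (((intSub φ hM).toMod hM).val.obj U) ≃ₗ[(AlgSp.OEtRing X).obj.obj U]
        ((algMod (intStr φ hM)).val.obj U)))) ?_
  intro U V g
  rfl

theorem exists_intClosure (hq : (algMod φ).IsQuasicoherent) :
    ∃ (A' : AlgSp.EtSh X CommRingCat.{u + 1}) (ι : A' ⟶ A) (φ' : AlgSp.OEt X ⟶ A'),
      φ' ≫ ι = φ ∧ (∀ E : AlgSp.EtOver X, Function.Injective (ι.hom.app (op E))) ∧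
      (∀ E : AlgSp.EtOver X, IsAffine E.obj.left.left → ∀ x : A.obj.obj (op E),
        x ∈ Set.range (ι.hom.app (op E)) ↔ (φ.hom.app (op E)).hom.IsIntegralElem x) ∧
      (algMod φ').IsQuasicoherent := by
  have hM : QC (algMod φ) := (isQuasicoherent_iff _).1 hq
  refine ⟨intSh φ hM, intIncl φ hM, intStr φ hM, rfl, fun E a b e => Subtype.ext e, fun E hE x => ?_,
    (isQuasicoherent_iff _).2 (qc_intStr φ hM)⟩
  exact ⟨fun ⟨y, hy⟩ => hy ▸ ((intSub φ hM).mem_iff hM hE _).1 y.2,
    fun h => ⟨⟨x, ((intSub φ hM).mem_iff hM hE x).2 h⟩, rfl⟩⟩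

end Groth.Agent.AlgSpIntS

end
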