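import Groth.Agent.AlgSpIntS.Alg
import Groth.Agent.AlgSpIntS.Chart

/-! Global functions of a universally closed quasi-compact space over an affine base are integral. -/

set_option autoImplicit false
set_option backward.isDefEq.respectTransparency false
set_option backward.isDefEq.respectTransparency.types false
universe u

open CategoryTheory CategoryTheory.Limits AlgebraicGeometry Opposite
open _root_.AlgSp

namespace Groth.Agent.AlgSpIntS

variable {S : Scheme.{u}}

/-- The image in the line over the base of the hyperbola of a global function is closed and misses the origin. -/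
theorem exists_closed_hyperbola {X : Sp S} {V W T : Over S}
    (f : X ⟶ (yon S).obj V) (huc : IsUnivClosedMor f)
    (a : (yon S).obj W ⟶ X) (ha : RepWith @Etale a) (has : RepWith @Surjective a)
    (s : ↥(gsectEt (OEt X) : CommRingCat.{u + 1})) (τ : T ⟶ V) (tt : Γ(T.left, ⊤)) :
    ∃ D : Set ↥T.left, IsClosed D ∧ D ⊆ T.left.basicOpen tt ∧
      ∀ (R : Over S) (pW : R ⟶ W) (pT : R ⟶ T), pT ≫ τ = pW ≫ (yon S).preimage (a ≫ f) →
        pT.left.appTop.hom tt * pW.left.appTop.hom (valAt s (EtOver.mk a ha)) = 1 →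
        ∀ x, pT.left x ∈ D := by
  obtain ⟨P, fst, snd, sqP⟩ : ∃ (P : Sp S) (fst : P ⟶ X) (snd : P ⟶ (yon S).obj T),
      IsPullback fst snd f ((yon S).map τ) := ⟨_, _, _, IsPullback.of_hasPullback _ _⟩
  let w : W ⟶ V := (yon S).preimage (a ≫ f)
  let Q := pullback w τ
  let qW : Q ⟶ W := pullback.fst w τ
  let qT : Q ⟶ T := pullback.snd w τ
  have sqWT : IsPullback ((yon S).map qW) ((yon S).map qT) (a ≫ f) ((yon S).map τ) := by
    have := (IsPullback.of_hasPullback w τ).map (yon S)
    rwa [show (yon S).map w = a ≫ f from Functor.map_preimage _ _] at this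
  let uQ : (yon S).obj Q ⟶ P :=
    sqP.lift ((yon S).map qW ≫ a) ((yon S).map qT) (by rw [Category.assoc, sqWT.w])
  have huT : uQ ≫ snd = (yon S).map qT := sqP.lift_snd _ _ _
  have sqQ : IsPullback ((yon S).map qW) uQ a fst :=
    IsPullback.of_bot (by rw [huT]; exact sqWT) (sqP.lift_fst _ _ _).symm sqP
  have hue : RepWith @Etale uQ := MorphismProperty.of_isPullback sqQ ha
  have hus : RepWith @Surjective uQ := MorphismProperty.of_isPullback sqQ has
  let v := valAt s (EtOver.mk a ha)
  let z : Γ(Q.left, ⊤) := qT.left.appTop.hom tt * qW.left.appTop.hom v - 1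
  let C : Set ↥Q.left := (Q.left.basicOpen z : Set ↥Q.left)ᶜ
  have hsat : Points.ofPt uQ '' (Cᶜ) = (Points.ofPt uQ '' C)ᶜ := by
    ext x
    constructor
    · rintro ⟨q, hq, rfl⟩ ⟨q', hq', e⟩
      obtain ⟨R, t₁, t₂, r, -, -, w, e1, e2⟩ := ASp.exists_common_point hue hue e.symm
      have hT : t₁ ≫ qT = t₂ ≫ qT := (yon S).map_injective (by
        rw [Functor.map_comp, Functor.map_comp, ← huT, reassoc_of% w])
      have hW : (yon S).map (t₁ ≫ qW) ≫ a = (yon S).map (t₂ ≫ qW) ≫ a := by
        rw [Functor.map_comp, Functor.map_comp, Category.assoc, Category.assoc, sqQ.w, reassoc_of% w]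
      have hv := valAt_eq_of_comp_eq s ha _ _ hW
      simp only [Over.comp_left, Scheme.Hom.comp_appTop, CommRingCat.hom_comp, RingHom.comp_apply] at hv
      have hz : t₁.left.appTop.hom z = t₂.left.appTop.hom z := by
        simp only [z, map_sub, map_mul, map_one]
        rw [show t₁.left.appTop.hom (qW.left.appTop.hom v) = t₂.left.appTop.hom (qW.left.appTop.hom v) from hv]
        congr 2
        have := congrArg (fun k : R ⟶ T => k.left.appTop.hom tt) hT
        simpa using this
      have hb : t₁.left ⁻¹ᵁ Q.left.basicOpen z = t₂.left ⁻¹ᵁ Q.left.basicOpen z := by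
        simp only [Scheme.preimage_basicOpen]
        exact congrArg R.left.basicOpen hz
      have h1 : r ∈ t₁.left ⁻¹ᵁ Q.left.basicOpen z := by
        change t₁.left r ∈ Q.left.basicOpen z
        rw [e1]; simpa [C] using hq
      rw [hb] at h1
      change t₂.left r ∈ Q.left.basicOpen z at h1
      rw [e2] at h1
      exact hq' h1
    · intro hx
      obtain ⟨q, rfl⟩ := ASp.surjective_ofPt hus x
      exact ⟨q, fun hq => hx ⟨q, hq, rfl⟩, rfl⟩
  have hZ : IsClosed (Points.ofPt uQ '' C) := by
    refine ⟨?_⟩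
    rw [← hsat]
    exact ASp.isOpenMap_ofPt_of_etale hue _ (by rw [compl_compl]; exact (Q.left.basicOpen z).2)
  have hI : IsClosed (Points.map snd '' (Points.ofPt uQ '' C)) :=
    huc (IsAlgSpace.yon_obj T) ((yon S).map τ) fst snd sqP _ hZ
  have hcomm : ∀ q, Points.map snd (Points.ofPt uQ q) = Points.schemeHomeo T (qT.left q) := by
    intro q
    rw [← Points.map_yon_map_apply, ASp.ofPt_comp_eq_map uQ]
    rw [Function.comp_apply, ← huT]
    exact (Points.map_comp _ _ _).symm
  refine ⟨qT.left '' C, ?_, ?_, ?_⟩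
  · have e : qT.left '' C = Points.schemeHomeo T ⁻¹' (Points.map snd '' (Points.ofPt uQ '' C)) := by
      rw [Set.image_image]
      simp_rw [hcomm]
      rw [← Set.image_image (g := Points.schemeHomeo T), (Points.schemeHomeo T).injective.preimage_image]
    rw [e]
    exact hI.preimage (Points.schemeHomeo T).continuous
  · rintro _ ⟨q, hq, rfl⟩
    change q ∈ qT.left ⁻¹ᵁ T.left.basicOpen tt
    rw [Scheme.preimage_basicOpen]
    change ¬ q ∈ Q.left.basicOpen z at hq
    rw [Scheme.mem_basicOpen_top] at hq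
    rw [show qT.left.app ⊤ tt = qT.left.appTop.hom tt from rfl]
    refine (Scheme.mem_basicOpen_top _ _ _).2 ?_
    simp only [z, map_sub, map_one, map_mul] at hq
    rcases IsLocalRing.isUnit_or_isUnit_one_sub_self
      ((Q.left.presheaf.germ ⊤ q trivial).hom (qT.left.appTop.hom tt) *
        (Q.left.presheaf.germ ⊤ q trivial).hom (qW.left.appTop.hom v)) with h | h
    · exact isUnit_of_mul_isUnit_left h
    · exact absurd (by simpa using h.neg) hq
  · intro R pW pT w hone x
    have hR : ((yon S).map pW ≫ a) ≫ f = (yon S).map pT ≫ (yon S).map τ := by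
      rw [← Functor.map_comp, w, Functor.map_comp, Functor.map_preimage, Category.assoc]
    let l : (yon S).obj R ⟶ P := sqP.lift _ _ hR
    obtain ⟨k, hk⟩ := (yon S).map_surjective (sqQ.lift ((yon S).map pW) l (sqP.lift_fst _ _ _).symm)
    have hkW : k ≫ qW = pW := (yon S).map_injective (by rw [Functor.map_comp, hk, sqQ.lift_fst])
    have hkT : k ≫ qT = pT := (yon S).map_injective (by
      rw [Functor.map_comp, ← huT, hk, sqQ.lift_snd_assoc, sqP.lift_snd])
    refine ⟨k.left x, ?_, by rw [← hkT, Over.comp_left]; rfl⟩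
    intro hx
    have : x ∈ k.left ⁻¹ᵁ Q.left.basicOpen z := hx
    rw [Scheme.preimage_basicOpen] at this
    have hz0 : k.left.appTop.hom z = 0 := by
      rw [← hkW, ← hkT] at hone
      simp only [Over.comp_left, Scheme.Hom.comp_appTop, CommRingCat.hom_comp, RingHom.comp_apply] at hone
      simp only [z, map_sub, map_mul, map_one]
      rw [show k.left.appTop.hom (qW.left.appTop.hom v) = k.left.appTop.hom (qW.left.appTop.hom
        (valAt s (EtOver.mk a ha))) from rfl, hone, sub_self]
    rw [show k.left.app ⊤ z = 0 from hz0, Scheme.basicOpen_zero] at this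
    exact this

theorem exists_monic {X : AlgSp.Space S} {V : Over S} [IsAffine V.left]
    (f : X.obj ⟶ (yon S).obj V) (hqc : IsQuasiCompactMor f) (huc : IsUnivClosedMor f)
    (s : ↥(gsectEt (OEt X.obj) : CommRingCat.{u + 1})) :
    ∃ p : Polynomial Γ(V.left, ⊤), p.Monic ∧ ∀ E : EtOver X.obj,
      Polynomial.eval₂ ((yon S).preimage (E.obj.hom ≫ f)).left.appTop.hom (valAt s E) p = 0 := by
  have : CompactSpace ↥V.left := inferInstance
  have hX : IsQuasiCompactSp X.obj :=
    hqc (IsAlgSpace.yon_obj V) ASp.isQuasiCompactSp_yon (𝟙 _) (𝟙 X.obj) f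
      (IsPullback.of_horiz_isIso ⟨by simp⟩)
  have := ASp.compactSpace_of_isQuasiCompactSp hX
  obtain ⟨W, a, hWa, ha, has⟩ := ASp.exists_affine_chart X.property
  let A := Γ(V.left, ⊤)
  let B := Γ(W.left, ⊤)
  let w : W ⟶ V := (yon S).preimage (a ≫ f)
  let φ : A →+* B := w.left.appTop.hom
  let v : B := valAt s (EtOver.mk a ha)
  let PA : CommRingCat.{u} := CommRingCat.of (Polynomial A)
  let T : Over S := Over.mk ((Spec.map (CommRingCat.ofHom (Polynomial.C (R := A))) ≫ V.left.isoSpec.inv) ≫ V.hom)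
  let τ : T ⟶ V := Over.homMk (Spec.map (CommRingCat.ofHom (Polynomial.C (R := A))) ≫ V.left.isoSpec.inv) rfl
  let tt : Γ(T.left, ⊤) := (Scheme.ΓSpecIso PA).inv.hom Polynomial.X
  obtain ⟨D, hDc, hDt, hD⟩ := exists_closed_hyperbola f huc a ha has s τ tt
  let L := Localization.Away v
  let σ : L := IsLocalization.Away.invSelf (S := L) v
  have hσ : algebraMap B L v * σ = 1 := IsLocalization.Away.mul_invSelf v
  let ev : Polynomial A →+* L := Polynomial.eval₂RingHom ((algebraMap B L).comp φ) σ
  let bb : B →+* L := algebraMap B L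
  let R : Over S := Over.mk ((Spec.map (CommRingCat.ofHom bb) ≫ W.left.isoSpec.inv) ≫ W.hom)
  let pW : R ⟶ W := Over.homMk (Spec.map (CommRingCat.ofHom bb) ≫ W.left.isoSpec.inv) rfl
  have hleft : Spec.map (CommRingCat.ofHom ev) ≫ τ.left = pW.left ≫ w.left := by
    show Spec.map (CommRingCat.ofHom ev) ≫ Spec.map (CommRingCat.ofHom (Polynomial.C (R := A))) ≫ V.left.isoSpec.inv =
      (Spec.map (CommRingCat.ofHom bb) ≫ W.left.isoSpec.inv) ≫ w.left
    rw [Category.assoc, ← Scheme.isoSpec_inv_naturality, ← Spec.map_comp_assoc, ← Spec.map_comp_assoc]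
    congr 2
    ext c
    exact Polynomial.eval₂_C _ _
  let pT : R ⟶ T := Over.homMk (Spec.map (CommRingCat.ofHom ev)) (by
    show Spec.map (CommRingCat.ofHom ev) ≫ τ.left ≫ V.hom = pW.left ≫ W.hom
    rw [reassoc_of% hleft, Over.w w])
  have hw : pT ≫ τ = pW ≫ w := Over.OverMorphism.ext hleft
  have hpT : pT.left.appTop.hom tt = (Scheme.ΓSpecIso (CommRingCat.of L)).inv.hom σ := by
    refine (ConcreteCategory.congr_hom (Scheme.ΓSpecIso_inv_naturality (CommRingCat.ofHom ev)).symm Polynomial.X).trans ?_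
    exact congrArg (Scheme.ΓSpecIso (CommRingCat.of L)).inv.hom (Polynomial.eval₂_X _ _)
  have hpW : ∀ b : B, pW.left.appTop.hom b = (Scheme.ΓSpecIso (CommRingCat.of L)).inv.hom (bb b) := by
    intro b
    have e : W.left.isoSpec.inv.appTop = (Scheme.ΓSpecIso B).inv := by
      rw [← cancel_epi W.left.isoSpec.hom.appTop, ← Scheme.Hom.comp_appTop, Iso.inv_hom_id]
      simp [Scheme.isoSpec, Scheme.toSpecΓ_appTop]
    show ((Spec.map (CommRingCat.ofHom bb) ≫ W.left.isoSpec.inv).appTop).hom b = _
    rw [Scheme.Hom.comp_appTop, e]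
    exact (ConcreteCategory.congr_hom (Scheme.ΓSpecIso_inv_naturality (CommRingCat.ofHom bb)) b).symm
  have hone : pT.left.appTop.hom tt * pW.left.appTop.hom v = 1 := by
    rw [hpT, hpW]
    exact ((RingHom.map_mul _ σ (bb v)).symm.trans (congrArg _ ((mul_comm _ _).trans hσ))).trans (RingHom.map_one _)
  have hrange := hD R pW pT hw hone
  let D' : Set (PrimeSpectrum (Polynomial A)) := D
  have hD' : PrimeSpectrum.zeroLocus (PrimeSpectrum.vanishingIdeal D' : Set (Polynomial A)) = D' := by
    rw [PrimeSpectrum.zeroLocus_vanishingIdeal_eq_closure]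
    exact IsClosed.closure_eq hDc
  have htop : PrimeSpectrum.vanishingIdeal D' ⊔ Ideal.span {Polynomial.X} = ⊤ := by
    rw [← PrimeSpectrum.zeroLocus_empty_iff_eq_top, PrimeSpectrum.zeroLocus_sup, hD',
      PrimeSpectrum.zeroLocus_span, Set.eq_empty_iff_forall_notMem]
    rintro q ⟨h1, h2⟩
    have e : T.left.basicOpen tt = PrimeSpectrum.basicOpen (Polynomial.X : Polynomial A) :=
      basicOpen_eq_of_affine (R := PA) Polynomial.X
    have h3 : q ∈ PrimeSpectrum.basicOpen (Polynomial.X : Polynomial A) :=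
      (congrArg (fun O : TopologicalSpace.Opens (PrimeSpectrum (Polynomial A)) => q ∈ O) e).mp (hDt h1)
    exact h3 (by simpa using h2)
  obtain ⟨g, hg, c, hc, hgc⟩ := Submodule.mem_sup.1 (htop.ge (Submodule.mem_top (x := (1 : Polynomial A))))
  obtain ⟨e, rfl⟩ := Ideal.mem_span_singleton'.1 hc
  have hg' : g = 1 + Polynomial.X * (-e) := by
    linear_combination hgc
  have hnil : IsNilpotent (ev g) := by
    rw [nilpotent_iff_mem_prime]
    intro J hJ
    exact (PrimeSpectrum.mem_vanishingIdeal _ _).1 hg _ (hrange ⟨J, hJ⟩)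
  obtain ⟨n, hn⟩ := hnil
  obtain ⟨h', hh'⟩ : Polynomial.X ∣ g ^ n - 1 := by
    have : g - 1 ∣ g ^ n - 1 := by simpa using sub_dvd_pow_sub_pow g 1 n
    exact (Dvd.intro (-e) (by rw [hg']; ring)).trans this
  have hz : Polynomial.eval₂ ((algebraMap B L).comp φ) σ (1 + Polynomial.X * h') = 0 := by
    rw [← hh', add_sub_cancel]
    exact (map_pow ev g n).trans hn
  obtain ⟨p, hp, hp0⟩ := exists_monic_of_eval_inv φ v L h' σ hσ hz
  exact ⟨p, hp, eval₂_valAt f s a ha has p hp0⟩

end Groth.Agent.AlgSpIntS
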